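import Mathlib
import Groth.Prelude.Def_AlgSt4
import Groth.Prelude.Def_AlgSpCov
import Groth.Agent.Lib.Helper2.AlgSt.Substack.OpenChar
import Groth.Agent.Lib.Helper2.AlgSt.Setoid
import Groth.Agent.Lib.Helper2.AlgSp.FormalUnr
import Groth.Agent.Lib.Helper2.Stk.FibSetPsh
import Groth.Agent.Lib.Helper2.Stk.OfPshSheaf

/-!
# An algebraic stack covered by open substacks fibred in setoids is fibred in setoids, hence
equivalent to the category of a sheaf (helper2)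
-/

set_option autoImplicit false
set_option maxHeartbeats 4000000
set_option synthInstance.maxHeartbeats 400000
set_option linter.style.haveILetI false
set_option linter.unusedSectionVars false
set_option linter.unusedVariables false
set_option linter.unusedSimpArgs false
set_option linter.unnecessarySimpa false

open CategoryTheory CategoryTheory.Functor CategoryTheory.Limits AlgebraicGeometry Opposite

universe w u

namespace Groth.Agent.Helper2.AlgStLib.OpenCover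

open Groth.Agent.Helper2 Groth.Agent.Helper2.FibCatLib Groth.Agent.Helper2.StkLib
open Groth.Agent.Helper2.AlgSpBasic Groth.Agent.Helper2.EtaleLocal
open Groth.Agent.Helper2.AlgStLib Groth.Agent.Helper2.AlgStLib.Pts
open Groth.Agent.Helper2.AlgStLib.LocQ Groth.Agent.Helper2.AlgStLib.Substack

variable {S : Scheme.{u}} {𝒳 : BasedCategory.{u, u + 1} (Over S)}

/-- The open subscheme of a chart on which the chart lands in a given open set of points. -/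
noncomputable def chartOpen (h𝒳 : AlgSt.IsAlgStack Scheme.fppfPrecoverage 𝒳) {U : Over S}
    (x : FibCat.overCat U ⥤ᵇ 𝒳) (T : Set (AlgSt.Points 𝒳)) (hT : IsOpen T) : U.left.Opens :=
  ⟨AlgSt.Points.ofChart x ⁻¹' T, hT.preimage (continuous_ofChart h𝒳 x)⟩

/-- The open subscheme as a scheme over `S`. -/
noncomputable abbrev chartOpenOver (h𝒳 : AlgSt.IsAlgStack Scheme.fppfPrecoverage 𝒳) {U : Over S}
    (x : FibCat.overCat U ⥤ᵇ 𝒳) (T : Set (AlgSt.Points 𝒳)) (hT : IsOpen T) : Over S :=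
  Over.mk ((chartOpen h𝒳 x T hT).ι ≫ U.hom)

/-- Its inclusion. -/
noncomputable abbrev chartOpenι (h𝒳 : AlgSt.IsAlgStack Scheme.fppfPrecoverage 𝒳) {U : Over S}
    (x : FibCat.overCat U ⥤ᵇ 𝒳) (T : Set (AlgSt.Points 𝒳)) (hT : IsOpen T) :
    chartOpenOver h𝒳 x T hT ⟶ U :=
  Over.homMk (chartOpen h𝒳 x T hT).ι rfl

instance (h𝒳 : AlgSt.IsAlgStack Scheme.fppfPrecoverage 𝒳) {U : Over S}
    (x : FibCat.overCat U ⥤ᵇ 𝒳) (T : Set (AlgSt.Points 𝒳)) (hT : IsOpen T) :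
    IsOpenImmersion (chartOpenι h𝒳 x T hT).left :=
  inferInstanceAs (IsOpenImmersion (chartOpen h𝒳 x T hT).ι)

theorem mem_range_chartOpenι (h𝒳 : AlgSt.IsAlgStack Scheme.fppfPrecoverage 𝒳) {U : Over S}
    (x : FibCat.overCat U ⥤ᵇ 𝒳) (T : Set (AlgSt.Points 𝒳)) (hT : IsOpen T) (u : ↥U.left)
    (hu : AlgSt.Points.ofChart x u ∈ T) : u ∈ Set.range (chartOpenι h𝒳 x T hT).left :=
  ⟨⟨u, hu⟩, rfl⟩

/-- Objects of a chart over the open subscheme have all their points in `T`. -/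
theorem ptsIn_chartOpen (h𝒳 : AlgSt.IsAlgStack Scheme.fppfPrecoverage 𝒳) {U : Over S}
    (x : FibCat.overCat U ⥤ᵇ 𝒳) (T : Set (AlgSt.Points 𝒳)) (hT : IsOpen T) {V : Over S}
    (g : V ⟶ chartOpenOver h𝒳 x T hT) :
    PtsIn T (x.obj (Over.mk (g ≫ chartOpenι h𝒳 x T hT))) := by
  rw [ptsIn_chart_iff h𝒳.isStack.1 x T (Over.mk (g ≫ chartOpenι h𝒳 x T hT))]
  intro v
  have h1 : (Over.mk (g ≫ chartOpenι h𝒳 x T hT)).hom.left v =
      (chartOpen h𝒳 x T hT).ι (g.left v) := rfl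
  rw [h1]
  exact (g.left v).2

/-- **Step 1.** An algebraic stack covered by open substacks fibred in setoids is fibred in
setoids. -/
theorem isFibSetoid_of_openCover (h𝒳 : AlgSt.IsAlgStack Scheme.fppfPrecoverage 𝒳) {ι : Type w}
    (Q : ι → 𝒳.obj → Prop) (hQ : ∀ i, AlgSt.IsOpenSubstack 𝒳 (Q i) Scheme.fppfPrecoverage)
    (hcov : ⋃ i, Set.range (AlgSt.Points.map (AlgSt.subIncl 𝒳 (Q i))) = Set.univ)
    (hset : ∀ i, FibCat.IsFibSetoid (AlgSt.fullSub 𝒳 (Q i)).p) : FibCat.IsFibSetoid 𝒳.p := by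
  have hfib : FibCat.IsFibGrpd 𝒳.p := h𝒳.isStack.1
  refine ⟨hfib, fun U A B => ⟨fun m m' => Subtype.ext ?_⟩⟩
  have hm : 𝒳.p.IsHomLift (𝟙 U) m.1 := m.2
  have hm' : 𝒳.p.IsHomLift (𝟙 U) m'.1 := m'.2
  obtain ⟨x, e, he⟩ := exists_functor_of_obj hfib A.1 A.2
  have hT : ∀ i, IsOpen (Set.range (AlgSt.Points.map (AlgSt.subIncl 𝒳 (Q i)))) := fun i =>
    isOpen_range_of_isOpenImm (hQ i).2.1 h𝒳 (AlgSt.subIncl 𝒳 (Q i)) (hQ i).2.2
  let W' : ι → Over S := fun i => chartOpenOver h𝒳 x _ (hT i)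
  let j : ∀ i, W' i ⟶ U := fun i => chartOpenι h𝒳 x _ (hT i)
  let R : Sieve U := Sieve.ofArrows W' j
  have hR : R ∈ QuotSh.J Scheme.fppfPrecoverage S U := by
    apply Groth.Agent.Helper2.AlgSpFormal.ofArrows_mem_J W' j
    · intro i
      exact ⟨inferInstance, inferInstance⟩
    · intro u
      have hu : AlgSt.Points.ofChart x u ∈
          ⋃ i, Set.range (AlgSt.Points.map (AlgSt.subIncl 𝒳 (Q i))) := by
        rw [hcov]
        trivial
      obtain ⟨i, hi⟩ := Set.mem_iUnion.1 hu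
      exact ⟨i, mem_range_chartOpenι h𝒳 x _ (hT i) u hi⟩
  haveI : (Stk.resSieve R 𝒳).IsEquivalence := h𝒳.isStack.2 R hR
  have hfaith : (Stk.resSieve R 𝒳).Faithful := inferInstance
  apply eq_of_locally_eq R hfib hfaith m.1 m'.1 hm hm'
  rintro V f ⟨_, g, _, ⟨i⟩, rfl⟩
  let A' : Over U := Over.mk (g ≫ j i)
  have hψ : 𝒳.p.IsHomLift (g ≫ j i) (x.map (toId U A') ≫ e.hom) :=
    isHomLift_map_toId_comp x e.hom he A'
  obtain ⟨n, hn, hnm⟩ := exists_aut_of_pair hfib (g ≫ j i) (x.map (toId U A') ≫ e.hom) hψ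
    m.1 m'.1 hm hm'
  have hQa : Q i (x.obj A') :=
    of_ptsIn_range h𝒳 (Q i) (hQ i) _ (ptsIn_chartOpen h𝒳 x _ (hT i) g)
  have hdom : 𝒳.p.obj (x.obj A') = V := x.w_obj A'
  let A₀ : (AlgSt.fullSub 𝒳 (Q i)).obj := ⟨x.obj A', hQa⟩
  let N : A₀ ⟶ A₀ := ObjectProperty.homMk n
  haveI hN : (AlgSt.fullSub 𝒳 (Q i)).p.IsHomLift (𝟙 V) N :=
    (BasedFunctor.isHomLift_iff (AlgSt.subIncl 𝒳 (Q i)) (𝟙 V) N).1 hn
  haveI hI : (AlgSt.fullSub 𝒳 (Q i)).p.IsHomLift (𝟙 V) (𝟙 A₀) := IsHomLift.id hdom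
  have hNI : N = 𝟙 A₀ := eq_of_isThin_fiber (AlgSt.fullSub 𝒳 (Q i)).p ((hset i).2 V) N (𝟙 A₀)
  have hn1 : n = 𝟙 _ := congrArg (fun k : A₀ ⟶ A₀ => k.hom) hNI
  refine ⟨x.obj A', x.map (toId U A') ≫ e.hom, hψ, ?_⟩
  rw [hn1, Category.id_comp] at hnm
  exact hnm.symm

/-- **Steps 2–3.** An algebraic stack fibred in setoids is equivalent to the category of a
sheaf. -/
theorem exists_sheaf_equiv (h𝒳 : AlgSt.IsAlgStack Scheme.fppfPrecoverage 𝒳)
    (hset : FibCat.IsFibSetoid 𝒳.p) :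
    ∃ (F : AlgSp.Sp S) (e : AlgSt.ofSp F ⥤ᵇ 𝒳), FibCat.IsEquivOver e := by
  obtain ⟨P, e, he⟩ := FibSetPsh.exists_equiv_ofPsh_of_isFibSetoid 𝒳 hset
  have hst : Stk.IsStack (QuotSh.J Scheme.fppfPrecoverage S) (Stk.ofPsh P) :=
    (isStack_iff_of_isEquivOver _ e he).2 h𝒳.isStack
  have hP : Presheaf.IsSheaf (AlgSp.J S) P := by
    rw [isSheaf_iff_isSheaf_of_type]
    intro U R hR
    exact (isStackFor_ofPsh_iff P R).1 (hst.2 R hR)
  exact ⟨⟨P, hP⟩, e, he⟩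

end Groth.Agent.Helper2.AlgStLib.OpenCover
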