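import Mathlib
import Groth.Prelude.Def_AlgSt4
import Groth.Prelude.Def_AlgSpCov
import Groth.Agent.Lib.Helper2.AlgSt.OpenCover.Setoid
import Groth.Agent.Lib.Helper2.AlgSt.Dict
import Groth.Agent.Lib.Helper2.AlgSt.Square
import Groth.Agent.Lib.Helper2.AlgSt.FromSpace
import Groth.Agent.Lib.Helper2.AlgSt.RepDiagApps
import Groth.Agent.Lib.Helper2.AlgSt.RepDiagApps3
import Groth.Agent.Lib.Helper2.AlgSt.Substack.SchemeChart
import Groth.Agent.Lib.Helper2.AlgSt.Substack.FullSubFp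
import Groth.Agent.Lib.Helper2.AlgSt.Pts.Top
import Groth.Agent.Lib.Helper2.Stk.PushPull
import Groth.Agent.Lib.Helper2.Stk.OfPshFun
import Groth.Agent.Lib.Helper2.EquivOver

/-!
# An open substack equivalent to a sheaf gives an open immersion of sheaves, with local lifts
(helper2)
-/

set_option autoImplicit false
set_option maxHeartbeats 4000000
set_option synthInstance.maxHeartbeats 400000
set_option linter.style.haveILetI false
set_option linter.unusedSectionVars false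
set_option linter.unusedVariables false
set_option linter.unusedSimpArgs false
set_option linter.unnecessarySimpa false

open CategoryTheory CategoryTheory.Functor CategoryTheory.Limits AlgebraicGeometry Opposite

universe w u

namespace Groth.Agent.Helper2.AlgStLib.OpenCover

open Groth.Agent.Helper2 Groth.Agent.Helper2.FibCatLib Groth.Agent.Helper2.StkLib
open Groth.Agent.Helper2.AlgSpBasic Groth.Agent.Helper2.EtaleLocal
open Groth.Agent.Helper2.AlgStLib Groth.Agent.Helper2.AlgStLib.Pts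
open Groth.Agent.Helper2.AlgStLib.LocQ Groth.Agent.Helper2.AlgStLib.Substack

variable {S : Scheme.{u}} {𝒳 : BasedCategory.{u, u + 1} (Over S)}

/-- A map of sheaves all of whose base changes to schemes are representable with `P` is
representable with `P`. -/
theorem repWith_of_repBySpWith (P : MorphismProperty Scheme.{u}) [P.IsStableUnderBaseChange]
    {G F : AlgSp.Sp S} (j : G ⟶ F)
    (h : AlgSp.RepBySpWith (AlgSp.RepWith P) j.hom) : AlgSp.RepWith P j := by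
  have h' := (AlgSp.repBySpWith_hom_iff (AlgSp.RepWith P) j).1 h
  apply MorphismProperty.relative.of_exists
  intro U ξ
  have sq1 : IsPullback (pullback.fst j ξ) (pullback.snd j ξ) j ξ := IsPullback.of_hasPullback j ξ
  obtain ⟨-, hsnd⟩ := h' ξ (pullback.fst j ξ) (pullback.snd j ξ) sq1
  have sq2 := hsnd.rep.isPullback (𝟙 ((AlgSp.yon S).obj U))
  have sq3 := sq2.paste_horiz sq1
  rw [Category.id_comp] at sq3
  exact ⟨_, hsnd.rep.fst (𝟙 _) ≫ pullback.fst j ξ, hsnd.rep.snd (𝟙 _), sq3,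
    hsnd.property_snd (𝟙 _)⟩

/-- The section of a presheaf attached to `(Sch/W) ⟶ (Sch/T) ⟶ P`. -/
theorem mapOfFunctor_toOverCat_overMap_ofSecMap {W T : Over S} (g : W ⟶ T) {P : AlgSp.PSp S}
    (ξ : ((AlgSp.yon S).obj T).obj ⟶ P) :
    mapOfFunctor (BasedFunctor.comp (AlgSt.toOverCat W)
      (BasedFunctor.comp (AlgSt.overMap g) (ofSecMap ξ))) = ((AlgSp.yon S).map g).hom ≫ ξ := by
  have n3a : BasedFunctor.comp (AlgSt.toOverCat W)
        (BasedFunctor.comp (AlgSt.overMap g) (ofSecMap ξ)) ⟶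
      BasedFunctor.comp (BasedFunctor.comp (AlgSt.toOverCat W) (AlgSt.ofOverCat W))
        (BasedFunctor.comp (AlgSt.ofSpMap ((AlgSp.yon S).map g)) (Stk.ofPshMap ξ)) :=
    BasedCategory.whiskerLeft
      (BasedFunctor.comp (BasedFunctor.comp (AlgSt.toOverCat W) (AlgSt.ofOverCat W))
        (AlgSt.ofSpMap ((AlgSp.yon S).map g)))
      (BasedCategory.whiskerRight (toOfIso T).hom (Stk.ofPshMap ξ))
  have n3b : BasedFunctor.comp (BasedFunctor.comp (AlgSt.toOverCat W) (AlgSt.ofOverCat W))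
        (BasedFunctor.comp (AlgSt.ofSpMap ((AlgSp.yon S).map g)) (Stk.ofPshMap ξ)) ⟶
      BasedFunctor.comp (AlgSt.ofSpMap ((AlgSp.yon S).map g)) (Stk.ofPshMap ξ) :=
    BasedCategory.whiskerRight (toOfIso W).hom
      (BasedFunctor.comp (AlgSt.ofSpMap ((AlgSp.yon S).map g)) (Stk.ofPshMap ξ))
  refine (mapOfFunctor_congr (n3a ≫ n3b)).trans ?_
  refine (mapOfFunctor_comp _ _).trans ?_
  rw [mapOfFunctor_ofPshMap, mapOfFunctor_ofPshMap]

/-- **Step 4.** An open substack equivalent to the category of a sheaf `G` gives a map of sheaves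
`G ⟶ F` representable by open immersions, through which sections of `F` landing in the open
substack lift Zariski locally. -/
theorem exists_open_map (h𝒳 : AlgSt.IsAlgStack Scheme.fppfPrecoverage 𝒳) (F : AlgSp.Sp S)
    (e : AlgSt.ofSp F ⥤ᵇ 𝒳) (he : FibCat.IsEquivOver e) (Q₀ : 𝒳.obj → Prop)
    (hQ₀ : AlgSt.IsOpenSubstack 𝒳 Q₀ Scheme.fppfPrecoverage) (G : AlgSp.Sp S)
    (ei : AlgSt.ofSp G ⥤ᵇ AlgSt.fullSub 𝒳 Q₀) (hei : FibCat.IsEquivOver ei) :
    ∃ j : G ⟶ F, AlgSp.RepWith @IsOpenImmersion j ∧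
      ∀ (T : Over S) (s : (AlgSp.yon S).obj T ⟶ F) (t : T.left),
        AlgSt.Points.ofChart (BasedFunctor.comp (ofSecMap s.hom) e) t ∈
          Set.range (AlgSt.Points.map (AlgSt.subIncl 𝒳 Q₀)) →
        ∃ (W : Over S) (g : W ⟶ T) (σ : (AlgSp.yon S).obj W ⟶ G),
          IsOpenImmersion g.left ∧ t ∈ Set.range g.left ∧
            σ ≫ j = (AlgSp.yon S).map g ≫ s := by
  have he0 := he
  have hei0 := hei
  obtain ⟨e', ⟨ε⟩, ⟨β⟩⟩ := he0
  obtain ⟨Gi, ⟨α⟩, ⟨η⟩⟩ := hei0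
  obtain ⟨j, hj0⟩ : ∃ j : G ⟶ F, j.hom = mapOfFunctor
      (BasedFunctor.comp (BasedFunctor.comp ei (AlgSt.subIncl 𝒳 Q₀)) e') :=
    ⟨ObjectProperty.homMk _, rfl⟩
  obtain ⟨κ⟩ := ofPshMap_mapOfFunctor_iso
    (BasedFunctor.comp (BasedFunctor.comp ei (AlgSt.subIncl 𝒳 Q₀)) e')
  rw [← hj0] at κ
  have θ : BasedFunctor.comp (AlgSt.ofSpMap j) e ≅
      BasedFunctor.comp ei (AlgSt.subIncl 𝒳 Q₀) :=
    (PushPull.whiskerRightIso κ e) ≪≫
      (whiskerLeftIso (BasedFunctor.comp ei (AlgSt.subIncl 𝒳 Q₀)) β)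
  have hOI : AlgSt.RepByAlgSpWith (AlgSp.RepWith @IsOpenImmersion) (AlgSt.ofSpMap j) :=
    (repByAlgSpWith_of_square (AlgSp.RepWith @IsOpenImmersion) (AlgSt.subIncl 𝒳 Q₀)
      (AlgSt.ofSpMap j) ei e hei he θ).1 hQ₀.2.2
  have hrep1 : AlgSt.RepByAlgSp1 (AlgSt.ofSpMap j) := repByAlgSp1_of_repByAlgSpWith _ hOI
  have hrepSp : AlgSp.RepBySp j.hom := (repBySp_iff_repByAlgSp1_ofPshMap j.hom).2 hrep1
  have hw : AlgSp.RepBySpWith (AlgSp.RepWith @IsOpenImmersion) j.hom :=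
    (repBySpWith_iff_repByAlgSpWith_ofPshMap' _
      (respectsIsoSp_of_stableBC (stableBC_repWith _)) j.hom hrepSp).2 hOI
  have hj : AlgSp.RepWith @IsOpenImmersion j := repWith_of_repBySpWith @IsOpenImmersion j hw
  refine ⟨j, hj, ?_⟩
  intro T s t ht
  have hT : IsOpen (Set.range (AlgSt.Points.map (AlgSt.subIncl 𝒳 Q₀))) :=
    isOpen_range_of_isOpenImm hQ₀.2.1 h𝒳 (AlgSt.subIncl 𝒳 Q₀) hQ₀.2.2
  have hg : IsOpenImmersion
      (chartOpenι h𝒳 (BasedFunctor.comp (ofSecMap s.hom) e) _ hT).left := inferInstance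
  have htg : t ∈ Set.range (chartOpenι h𝒳 (BasedFunctor.comp (ofSecMap s.hom) e) _ hT).left :=
    mem_range_chartOpenι h𝒳 (BasedFunctor.comp (ofSecMap s.hom) e) _ hT t ht
  have hy : ∀ A : (FibCat.overCat
      (chartOpenOver h𝒳 (BasedFunctor.comp (ofSecMap s.hom) e) _ hT)).obj,
      Q₀ ((BasedFunctor.comp
        (AlgSt.overMap (chartOpenι h𝒳 (BasedFunctor.comp (ofSecMap s.hom) e) _ hT))
        (BasedFunctor.comp (ofSecMap s.hom) e)).obj A) := by
    intro A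
    have h1 : PtsIn (Set.range (AlgSt.Points.map (AlgSt.subIncl 𝒳 Q₀)))
        ((BasedFunctor.comp (ofSecMap s.hom) e).obj
          (Over.mk (A.hom ≫ chartOpenι h𝒳 (BasedFunctor.comp (ofSecMap s.hom) e) _ hT))) :=
      ptsIn_chartOpen h𝒳 (BasedFunctor.comp (ofSecMap s.hom) e) _ hT A.hom
    exact of_ptsIn_range h𝒳 Q₀ hQ₀ _ h1
  -- make the chart data opaque
  obtain ⟨W, g, hg, htg, hy⟩ : ∃ (W : Over S) (g : W ⟶ T), IsOpenImmersion g.left ∧
      t ∈ Set.range g.left ∧ ∀ A : (FibCat.overCat W).obj,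
        Q₀ ((BasedFunctor.comp (AlgSt.overMap g)
          (BasedFunctor.comp (ofSecMap s.hom) e)).obj A) :=
    ⟨_, _, hg, htg, hy⟩
  obtain ⟨y', hy'⟩ : ∃ y' : FibCat.overCat W ⥤ᵇ AlgSt.fullSub 𝒳 Q₀,
      BasedFunctor.comp y' (AlgSt.subIncl 𝒳 Q₀) =
        BasedFunctor.comp (AlgSt.overMap g) (BasedFunctor.comp (ofSecMap s.hom) e) :=
    ⟨corestrict _ Q₀ hy, rfl⟩
  obtain ⟨σ, hσ0⟩ : ∃ σ : (AlgSp.yon S).obj W ⟶ G, σ.hom = mapOfFunctor
      (BasedFunctor.comp (AlgSt.toOverCat W) (BasedFunctor.comp y' Gi)) :=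
    ⟨ObjectProperty.homMk _, rfl⟩
  refine ⟨W, g, σ, hg, htg, ?_⟩
  apply ObjectProperty.hom_ext
  change σ.hom ≫ j.hom = ((AlgSp.yon S).map g).hom ≫ s.hom
  rw [hσ0, hj0]
  refine (mapOfFunctor_comp _ _).symm.trans ?_
  have n1 : BasedFunctor.comp (BasedFunctor.comp (AlgSt.toOverCat W) (BasedFunctor.comp y' Gi))
        (BasedFunctor.comp (BasedFunctor.comp ei (AlgSt.subIncl 𝒳 Q₀)) e') ⟶
      BasedFunctor.comp (AlgSt.toOverCat W)
        (BasedFunctor.comp (BasedFunctor.comp y' (AlgSt.subIncl 𝒳 Q₀)) e') :=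
    BasedCategory.whiskerLeft (BasedFunctor.comp (AlgSt.toOverCat W) y')
      (BasedCategory.whiskerRight η.hom (BasedFunctor.comp (AlgSt.subIncl 𝒳 Q₀) e'))
  rw [hy'] at n1
  have n2 : BasedFunctor.comp (AlgSt.toOverCat W)
        (BasedFunctor.comp (BasedFunctor.comp (AlgSt.overMap g)
          (BasedFunctor.comp (ofSecMap s.hom) e)) e') ⟶
      BasedFunctor.comp (AlgSt.toOverCat W)
        (BasedFunctor.comp (AlgSt.overMap g) (ofSecMap s.hom)) :=
    BasedCategory.whiskerLeft (BasedFunctor.comp (AlgSt.toOverCat W)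
      (BasedFunctor.comp (AlgSt.overMap g) (ofSecMap s.hom))) ε.hom
  exact (mapOfFunctor_congr (n1 ≫ n2)).trans (mapOfFunctor_toOverCat_overMap_ofSecMap g s.hom)

end Groth.Agent.Helper2.AlgStLib.OpenCover
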