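import Mathlib
import Groth.Prelude.Def_AlgSt4
import Groth.Prelude.Def_AlgSpCov
import Groth.Agent.Lib.Helper2.AlgSt.OpenCover.OpenMap

/-!
# An algebraic stack covered by open substacks equivalent to sheaves is equivalent to a sheaf
covered by these sheaves (helper2)
-/

set_option autoImplicit false
set_option maxHeartbeats 4000000
set_option synthInstance.maxHeartbeats 400000
set_option linter.style.haveILetI false
set_option linter.unusedSectionVars false
set_option linter.unusedVariables false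
set_option linter.unusedSimpArgs false
set_option linter.unnecessarySimpa false

open CategoryTheory CategoryTheory.Functor CategoryTheory.Limits AlgebraicGeometry Opposite

universe w u

namespace Groth.Agent.Helper2.AlgStLib.OpenCover

open Groth.Agent.Helper2 Groth.Agent.Helper2.FibCatLib Groth.Agent.Helper2.StkLib
open Groth.Agent.Helper2.AlgSpBasic Groth.Agent.Helper2.EtaleLocal
open Groth.Agent.Helper2.AlgStLib Groth.Agent.Helper2.AlgStLib.Pts
open Groth.Agent.Helper2.AlgStLib.LocQ Groth.Agent.Helper2.AlgStLib.Substack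

variable {S : Scheme.{u}} {𝒳 : BasedCategory.{u, u + 1} (Over S)}

/-- **Steps 1–5.** An algebraic stack covered by open substacks equivalent to categories of
sheaves `G i` is equivalent to the category of a sheaf `F`, with maps `G i ⟶ F` representable by
open immersions, a subfamily of which indexed by a small type is a Zariski covering of `F`. -/
theorem exists_open_cover_data (h𝒳 : AlgSt.IsAlgStack Scheme.fppfPrecoverage 𝒳) {ι : Type w}
    (Q : ι → 𝒳.obj → Prop) (hQ : ∀ i, AlgSt.IsOpenSubstack 𝒳 (Q i) Scheme.fppfPrecoverage)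
    (hcov : ⋃ i, Set.range (AlgSt.Points.map (AlgSt.subIncl 𝒳 (Q i))) = Set.univ)
    (G : ι → AlgSp.Sp S) (ei : ∀ i, AlgSt.ofSp (G i) ⥤ᵇ AlgSt.fullSub 𝒳 (Q i))
    (hei : ∀ i, FibCat.IsEquivOver (ei i)) :
    ∃ (F : AlgSp.Sp S) (e : AlgSt.ofSp F ⥤ᵇ 𝒳) (_ : FibCat.IsEquivOver e) (κ : Type u)
      (idx : κ → ι) (j : ∀ k, G (idx k) ⟶ F), (∀ k, AlgSp.RepWith @IsOpenImmersion (j k)) ∧
      ∀ (T : Over S) (s : (AlgSp.yon S).obj T ⟶ F) (t : T.left),
        ∃ (k : κ) (W : Over S) (g : W ⟶ T) (σ : (AlgSp.yon S).obj W ⟶ G (idx k)),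
          IsOpenImmersion g.left ∧ t ∈ Set.range g.left ∧
            σ ≫ j k = (AlgSp.yon S).map g ≫ s := by
  have hset : ∀ i, FibCat.IsFibSetoid (AlgSt.fullSub 𝒳 (Q i)).p := fun i =>
    (isFibSetoid_iff_of_isEquivOver (ei i) (hei i)).1 (isFibSetoid_ofPsh (G i).obj)
  have h𝒳set : FibCat.IsFibSetoid 𝒳.p := isFibSetoid_of_openCover h𝒳 Q hQ hcov hset
  obtain ⟨F, e, he⟩ := exists_sheaf_equiv h𝒳 h𝒳set
  obtain ⟨U₀, x₀, -, hx₀s⟩ := h𝒳.atlas
  have hsurj₀ : Function.Surjective (AlgSt.Points.ofChart x₀) :=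
    surjective_ofChart h𝒳.isStack.1 x₀ hx₀s
  have hidx : ∀ u : U₀.left, ∃ i, AlgSt.Points.ofChart x₀ u ∈
      Set.range (AlgSt.Points.map (AlgSt.subIncl 𝒳 (Q i))) := by
    intro u
    have hu : AlgSt.Points.ofChart x₀ u ∈
        ⋃ i, Set.range (AlgSt.Points.map (AlgSt.subIncl 𝒳 (Q i))) := by
      rw [hcov]
      trivial
    exact Set.mem_iUnion.1 hu
  choose idx hidx using hidx
  choose j hjopen hjlift using fun i =>
    exists_open_map h𝒳 F e he (Q i) (hQ i) (G i) (ei i) (hei i)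
  refine ⟨F, e, he, U₀.left, idx, fun k => j (idx k), fun k => hjopen (idx k), ?_⟩
  intro T s t
  obtain ⟨u, hu⟩ := hsurj₀ (AlgSt.Points.ofChart (BasedFunctor.comp (ofSecMap s.hom) e) t)
  have ht : AlgSt.Points.ofChart (BasedFunctor.comp (ofSecMap s.hom) e) t ∈
      Set.range (AlgSt.Points.map (AlgSt.subIncl 𝒳 (Q (idx u)))) := by
    rw [← hu]
    exact hidx u
  obtain ⟨W, g, σ, hg, htg, hσ⟩ := hjlift (idx u) T s t ht
  exact ⟨u, W, g, σ, hg, htg, hσ⟩

end Groth.Agent.Helper2.AlgStLib.OpenCover
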