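import Mathlib
import Groth.Prelude.Def_AlgSp
import Groth.Agent.S9877
import Groth.Agent.S9881
import Groth.Agent.Lib.Helper2.AlgSp.FormalUnr

/-!
# A sheaf Zariski-locally covered by algebraic spaces through open immersions is an algebraic
space (helper2)
-/

set_option autoImplicit false
set_option maxHeartbeats 4000000
set_option synthInstance.maxHeartbeats 400000
set_option linter.style.haveILetI false
set_option linter.unusedSectionVars false
set_option linter.unusedVariables false
set_option linter.unusedSimpArgs false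
set_option linter.unnecessarySimpa false

open CategoryTheory CategoryTheory.Functor CategoryTheory.Limits AlgebraicGeometry Opposite AlgSp

universe u

namespace Groth.Agent.Helper2.AlgStLib.OpenCover

variable {S : Scheme.{u}}

/-- A sheaf with a small family of maps from algebraic spaces, representable by open immersions,
through which every section lifts Zariski locally, is an algebraic space. -/
theorem isAlgSpace_of_local_lifts (F : Sp S) {κ : Type u} (Fi : κ → Sp S) (f : ∀ k, Fi k ⟶ F)
    (halg : ∀ k, IsAlgSpace (Fi k)) (hopen : ∀ k, RepWith @IsOpenImmersion (f k))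
    (hlift : ∀ (T : Over S) (s : (yon S).obj T ⟶ F) (t : T.left),
      ∃ (k : κ) (W : Over S) (g : W ⟶ T) (σ : (yon S).obj W ⟶ Fi k),
        IsOpenImmersion g.left ∧ t ∈ Set.range g.left ∧ σ ≫ f k = (yon S).map g ≫ s) :
    IsAlgSpace F := by
  haveI : HasColimitsOfSize.{u, u} (Sp S) := hasColimitsOfSizeShrink.{u, u, u + 1, u + 1} (Sp S)
  obtain ⟨c, ⟨hc⟩⟩ : ∃ c : Cofan Fi, Nonempty (IsColimit c) :=
    ⟨Cofan.mk (∐ Fi) (Sigma.ι Fi), ⟨coproductIsCoproduct Fi⟩⟩
  have hcop : IsAlgSpace c.pt := Groth.Agent.S9881.result S Fi halg c hc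
  refine Groth.Agent.S9877.result S F Fi f halg hopen c hc ?_ hcop
  constructor
  intro T s
  obtain ⟨s', hs'⟩ : ∃ s' : (yon S).obj T ⟶ F, (J S).uliftYonedaEquiv s' = s :=
    ⟨(J S).uliftYonedaEquiv.symm s, Equiv.apply_symm_apply _ _⟩
  choose k W g σ hg hmem hσ using hlift T s'
  have hcov : Sieve.ofArrows W g ∈ J S T :=
    Groth.Agent.Helper2.AlgSpFormal.ofArrows_mem_J W g
      (fun t => by haveI := hg t; exact ⟨inferInstance, inferInstance⟩)
      (fun t => ⟨t, hmem t⟩)
  refine (J S).superset_covering ?_ hcov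
  rintro V p ⟨_, q, _, ⟨t⟩, rfl⟩
  apply Sieve.downward_closed
  refine ⟨(J S).uliftYonedaEquiv (σ t ≫ c.inj (k t)), ?_⟩
  have h1 : (σ t ≫ c.inj (k t)) ≫ Cofan.IsColimit.desc hc f = (yon S).map (g t) ≫ s' := by
    rw [Category.assoc, Cofan.IsColimit.fac]
    exact hσ t
  have h2 := congrArg (J S).uliftYonedaEquiv h1
  rw [GrothendieckTopology.uliftYonedaEquiv_comp,
    ← GrothendieckTopology.uliftYonedaEquiv_naturality, hs'] at h2
  exact h2

end Groth.Agent.Helper2.AlgStLib.OpenCover
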